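import Groth.Agent.NormalSch.Basic

/-!
# Integral birational morphisms to normal schemes are isomorphisms
-/

set_option autoImplicit false
set_option backward.isDefEq.respectTransparency false
set_option backward.defeqAttrib.useBackward true

universe u

open CategoryTheory AlgebraicGeometry TopologicalSpace Opposite

namespace Groth.Agent.NormalSch

variable {X X' : Scheme.{u}}

/-- incomparability for integral morphisms -/
theorem eq_of_specializes_of_eq (g : X' ⟶ X) [IsIntegralHom g] {y z : X'} (h : y ⤳ z) (e : g y = g z) :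
    y = z := by
  obtain ⟨_, ⟨U, hU, rfl⟩, hzU, -⟩ :=
    X.isBasis_affineOpens.exists_subset_of_mem_open (Set.mem_univ (g z)) isOpen_univ
  let V := g ⁻¹ᵁ U
  have hV : IsAffineOpen V := hU.preimage g
  have hyV : y ∈ V := h.mem_open V.isOpen hzU
  let Qy := hV.primeIdealOf ⟨y, hyV⟩
  let Qz := hV.primeIdealOf ⟨z, hzU⟩
  have hle : Qy.asIdeal ≤ Qz.asIdeal := by
    apply (PrimeSpectrum.le_iff_specializes Qy Qz).mpr
    refine (hV.fromSpec.isOpenEmbedding.isInducing.specializes_iff).mp ?_
    rwa [hV.fromSpec_primeIdealOf, hV.fromSpec_primeIdealOf]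
  letI : Algebra Γ(X, U) Γ(X', V) := (g.app U).hom.toAlgebra
  haveI : Algebra.IsIntegral Γ(X, U) Γ(X', V) :=
    Algebra.isIntegral_def.mpr (IsIntegralHom.isIntegral_app g U hU)
  have key : ∀ (w : X') (hw : w ∈ V), PrimeSpectrum.comap (g.app U).hom (hV.primeIdealOf ⟨w, hw⟩) =
      hU.primeIdealOf ⟨g w, hw⟩ := by
    intro w hw
    refine hU.fromSpec.isOpenEmbedding.injective ?_
    rw [hU.fromSpec_primeIdealOf]
    have hsq := congr($(IsAffineOpen.SpecMap_appLE_fromSpec g hU hV le_rfl) (hV.primeIdealOf ⟨w, hw⟩))
    rw [Scheme.Hom.comp_apply, Scheme.Hom.comp_apply, hV.fromSpec_primeIdealOf] at hsq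
    rw [Scheme.Hom.app_eq_appLE]
    exact hsq
  have hcomap : Qy.asIdeal.under Γ(X, U) = Qz.asIdeal.under Γ(X, U) := by
    have h1 := congrArg PrimeSpectrum.asIdeal (key y hyV)
    have h2 := congrArg PrimeSpectrum.asIdeal (key z hzU)
    refine h1.trans (Eq.trans ?_ h2.symm)
    simp only [e]
  rcases hle.eq_or_lt with heq | hlt
  · have := congrArg hV.fromSpec (PrimeSpectrum.ext heq)
    rwa [hV.fromSpec_primeIdealOf, hV.fromSpec_primeIdealOf] at this
  · haveI := Qy.2
    exact absurd hcomap (Ideal.IsIntegral.comap_lt_comap (R := Γ(X, U)) hlt).ne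

/-- An integral morphism of integral schemes inducing an isomorphism of function fields onto a
normal scheme is an isomorphism. -/
theorem isIso_of_integral_birational [IsIntegral X] [IsIntegral X'] (hX : Pi1.IsNormalScheme X)
    (g : X' ⟶ X) [IsIntegralHom g] (hgen : g (genericPoint X') = genericPoint X)
    (hsurj : Function.Surjective (g.stalkMap (genericPoint X'))) : IsIso g := by
  let K := X.functionField
  let ψ : X.functionField ⟶ X'.functionField :=
    X.presheaf.stalkSpecializes (specializes_of_eq hgen) ≫ g.stalkMap (genericPoint X')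
  have hψs : Function.Surjective ψ := by
    intro a
    obtain ⟨b, rfl⟩ := hsurj a
    haveI : IsIso (X.presheaf.stalkSpecializes (specializes_of_eq hgen)) :=
      (TopCat.Presheaf.stalkCongr X.presheaf (.of_eq hgen)).isIso_inv
    obtain ⟨c, rfl⟩ := ((ConcreteCategory.isIso_iff_bijective
      (X.presheaf.stalkSpecializes (specializes_of_eq hgen))).mp inferInstance).2 b
    exact ⟨c, rfl⟩
  refine IsZariskiLocalAtTarget.of_forall_exists_morphismRestrict (P := .isomorphisms Scheme) fun x => ?_
  obtain ⟨_, ⟨U, hU, rfl⟩, hxU, -⟩ :=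
    X.isBasis_affineOpens.exists_subset_of_mem_open (Set.mem_univ x) isOpen_univ
  refine ⟨U, hxU, (isIso_morphismRestrict_iff_isIso_app _ hU).mpr ?_⟩
  haveI : Nonempty U := ⟨⟨x, hxU⟩⟩
  haveI : Nonempty (g ⁻¹ᵁ U) := ⟨⟨genericPoint X', (show g (genericPoint X') ∈ U from
    hgen ▸ genericPoint_mem U)⟩⟩
  have hsq : ∀ a, X'.germToFunctionField (g ⁻¹ᵁ U) (g.app U a) = ψ (X.germToFunctionField U a) := by
    intro a
    change _ = g.stalkMap (genericPoint X') (X.presheaf.stalkSpecializes (specializes_of_eq hgen)
      (X.presheaf.germ U _ (genericPoint_mem U) a))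
    rw [show X.presheaf.stalkSpecializes (specializes_of_eq hgen) (X.presheaf.germ U _ (genericPoint_mem U) a) =
        X.presheaf.germ U (g (genericPoint X')) (hgen ▸ genericPoint_mem U) a from
      congr($(X.presheaf.germ_stalkSpecializes (genericPoint_mem U) (specializes_of_eq hgen)) a),
      Scheme.Hom.germ_stalkMap_apply]
  rw [ConcreteCategory.isIso_iff_bijective]
  refine ⟨fun a b hab => X.germToFunctionField_injective U ?_, fun b => ?_⟩
  · have := congrArg (X'.germToFunctionField (g ⁻¹ᵁ U)) hab
    rw [hsq, hsq] at this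
    exact RingHom.injective (R := X.functionField) ψ.hom this
  · obtain ⟨f, hf⟩ := hψs (X'.germToFunctionField (g ⁻¹ᵁ U) b)
    have hint : (g.app U).hom.IsIntegralElem b := IsIntegralHom.isIntegral_app g U hU b
    obtain ⟨p, hpm, hp⟩ := hint
    have hf' : IsIntegral Γ(X, U) f := by
      refine ⟨p, hpm, RingHom.injective (R := X.functionField) ψ.hom ?_⟩
      rw [map_zero, Polynomial.hom_eval₂, hf,
        show ψ.hom.comp (algebraMap Γ(X, U) X.functionField) =
          (X'.germToFunctionField (g ⁻¹ᵁ U)).hom.comp (g.app U).hom from RingHom.ext fun a => (hsq a).symm,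
        ← Polynomial.hom_eval₂, hp, map_zero]
    obtain ⟨s, hs⟩ := exists_section_of_isIntegral hX U f hf'
    refine ⟨s, X'.germToFunctionField_injective _ ?_⟩
    rw [hsq, hs, hf]

/-- birationality from residue fields at the generic point -/
theorem stalkMap_surjective_of_residueFieldMap [IsIntegral X] [IsIntegral X'] (g : X' ⟶ X)
    (hbir : Function.Surjective (g.residueFieldMap (genericPoint X'))) :
    Function.Surjective (g.stalkMap (genericPoint X')) := by
  intro a
  obtain ⟨b, hb⟩ := hbir (X'.residue _ a)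
  obtain ⟨c, rfl⟩ := X.residue_surjective _ b
  refine ⟨c, ?_⟩
  have hinj : Function.Injective (X'.residue (genericPoint X')) :=
    RingHom.injective (R := X'.functionField) (X'.residue (genericPoint X')).hom
  apply hinj
  rw [← hb]
  exact congr($(Scheme.residue_residueFieldMap g (genericPoint X')) c).symm

/-- a rational section over a dense open makes an integral morphism birational -/
theorem birational_of_section [IsIntegral X] [IsIntegral X'] (g : X' ⟶ X) [IsIntegralHom g]
    (U : X.Opens) [Nonempty U] (s : (U : Scheme.{u}) ⟶ X') (hs : s ≫ g = U.ι) :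
    g (genericPoint X') = genericPoint X ∧ Function.Surjective (g.stalkMap (genericPoint X')) := by
  haveI : IsIntegral U := inferInstance
  let ηU := genericPoint (U : Scheme.{u})
  have h1 : U.ι ηU = genericPoint X := genericPoint_eq_of_isOpenImmersion U.ι
  have h2 : g (s ηU) = genericPoint X := by rw [← Scheme.Hom.comp_apply, hs, h1]
  have h3 : genericPoint X' ⤳ s ηU := (genericPoint_spec X').specializes trivial
  have h4 : g (genericPoint X') = genericPoint X :=
    ((genericPoint_spec X).specializes (trivial : g (genericPoint X') ∈ Set.univ) |>.antisymm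
      (h2 ▸ h3.map g.continuous)).eq.symm
  have h5 : genericPoint X' = s ηU := eq_of_specializes_of_eq g h3 (h4.trans h2.symm)
  refine ⟨h4, ?_⟩
  rw [h5]
  intro a
  haveI : IsIso ((s ≫ g).stalkMap ηU) := by rw [hs]; infer_instance
  obtain ⟨b, hb⟩ := ((ConcreteCategory.isIso_iff_bijective ((s ≫ g).stalkMap ηU)).mp inferInstance).2
    (s.stalkMap ηU a)
  refine ⟨b, ?_⟩
  rw [Scheme.Hom.stalkMap_comp, ConcreteCategory.comp_apply] at hb
  have hF : IsField (X'.presheaf.stalk (s ηU)) := h5 ▸ Field.toIsField X'.functionField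
  letI := hF.toField
  exact RingHom.injective (s.stalkMap ηU).hom hb

end Groth.Agent.NormalSch
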