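import Groth.Agent.NormalSch.Normalization
import Groth.Prelude.Def_Curv2

/-!
# Normal curves: extension of rational maps, points and valuations
-/

set_option autoImplicit false
set_option backward.isDefEq.respectTransparency false
set_option backward.defeqAttrib.useBackward true

universe u

open CategoryTheory AlgebraicGeometry TopologicalSpace Opposite IsLocalRing

namespace Groth.Agent.NormalSch

variable {X : Scheme.{u}}

/-- an open neighbourhood of a point with domain local ring contained in the closure of the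
generic point of that local ring -/
theorem exists_nhd_subset_closure [NoetherianSpace X] (x : X) [IsDomain (X.presheaf.stalk x)] :
    ∃ V : X.Opens, x ∈ V ∧
      (V : Set X) ⊆ closure {X.fromSpecStalk x (⊥ : PrimeSpectrum (X.presheaf.stalk x))} := by
  let ξ := X.fromSpecStalk x (⊥ : PrimeSpectrum (X.presheaf.stalk x))
  have hspec : ∀ y, y ⤳ x → ξ ⤳ y := by
    intro y hy
    obtain ⟨p, rfl⟩ : y ∈ Set.range (X.fromSpecStalk x) := X.range_fromSpecStalk ▸ hy
    exact ((PrimeSpectrum.le_iff_specializes (⊥ : PrimeSpectrum (X.presheaf.stalk x)) p).mp bot_le).map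
      (X.fromSpecStalk x).continuous
  have hξx : ξ ⤳ x := hspec x specializes_rfl
  -- the only component through `x`
  have honly : ∀ C ∈ irreducibleComponents X, x ∈ C → C = closure {ξ} := by
    intro C hC hxC
    obtain ⟨η, hη⟩ := QuasiSober.sober hC.1 (isClosed_of_mem_irreducibleComponents _ hC)
    have h : C ⊆ closure {ξ} := by
      rw [← hη.def]
      exact specializes_iff_closure_subset.mp (hspec η (hη.specializes hxC))
    exact Set.Subset.antisymm h (hC.2 isIrreducible_singleton.closure h)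
  let T : Set (Set X) := {C ∈ irreducibleComponents X | x ∉ C}
  have hT : T.Finite := NoetherianSpace.finite_irreducibleComponents.subset fun C hC => hC.1
  have hTc : IsClosed (⋃₀ T) := by
    rw [Set.sUnion_eq_biUnion]
    exact hT.isClosed_biUnion (f := fun C : Set X => C) fun C hC => isClosed_of_mem_irreducibleComponents C hC.1
  refine ⟨⟨(⋃₀ T)ᶜ, hTc.isOpen_compl⟩, ?_, ?_⟩
  · rintro ⟨C, hC, hxC⟩
    exact hC.2 hxC
  · intro z hz
    obtain ⟨C, hC, hzC⟩ : z ∈ ⋃₀ irreducibleComponents X := (sUnion_irreducibleComponents (X := X)).ge trivial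
    by_cases hxC : x ∈ C
    · rw [honly C hC hxC] at hzC; exact hzC
    · exact absurd ⟨C, ⟨hC, hxC⟩, hzC⟩ hz

variable {Y S : Scheme.{u}}

/-- maps out of a reduced open agree when they agree at a dense field valued point -/
theorem eq_of_generic (sY : Y ⟶ S) [IsSeparated sY] {W : Scheme.{u}} [IsReduced W] {g₁ g₂ : W ⟶ Y}
    (h : g₁ ≫ sY = g₂ ≫ sY) {T : Scheme.{u}} (σ : T ⟶ W) [IsDominant σ] (e : σ ≫ g₁ = σ ≫ g₂) : g₁ = g₂ :=
  ext_of_isDominant_of_isSeparated sY h σ e

/-- A map on a dense open of a Noetherian scheme to a proper scheme extends across a point whose local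
ring is a discrete valuation ring. -/
theorem exists_extension_at [IsNoetherian X] [IsReduced X] (sX : X ⟶ S) (sY : Y ⟶ S) [IsProper sY]
    (U : X.Opens) (hU : Dense (U : Set X)) (g : (U : Scheme.{u}) ⟶ Y) (hg : g ≫ sY = U.ι ≫ sX)
    (x : X) [IsDomain (X.presheaf.stalk x)] [IsDiscreteValuationRing (X.presheaf.stalk x)] :
    ∃ (V : X.Opens) (_ : x ∈ V) (gV : (V : Scheme.{u}) ⟶ Y), gV ≫ sY = V.ι ≫ sX ∧
      X.homOfLE (inf_le_right : U ⊓ V ≤ V) ≫ gV = X.homOfLE (inf_le_left : U ⊓ V ≤ U) ≫ g := by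
  let R := X.presheaf.stalk x
  let K := FractionRing R
  let a : Spec (CommRingCat.of K) ⟶ Spec R := Spec.map (CommRingCat.ofHom (algebraMap R K))
  let σ : Spec (CommRingCat.of K) ⟶ X := a ≫ X.fromSpecStalk x
  obtain ⟨V₀, hxV₀, hV₀⟩ := exists_nhd_subset_closure x
  have hrange : ∀ p, σ p = X.fromSpecStalk x (⊥ : PrimeSpectrum R) := by
    intro p
    rw [Scheme.Hom.comp_apply]
    congr 1
    haveI : Subsingleton (PrimeSpectrum K) := inferInstance
    rw [Subsingleton.elim (α := PrimeSpectrum K) p ⊥]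
    exact PrimeSpectrum.ext (Ideal.comap_bot_of_injective _ (IsFractionRing.injective R K))
  have hσU : ∀ p, σ p ∈ U := by
    intro p
    obtain ⟨z, hzV, hzU⟩ := hU.inter_open_nonempty _ V₀.isOpen ⟨x, hxV₀⟩
    rw [hrange]
    exact (specializes_iff_mem_closure.mpr (hV₀ hzV)).mem_open U.isOpen hzU
  let σU : Spec (CommRingCat.of K) ⟶ U :=
    IsOpenImmersion.lift U.ι σ (by rw [U.range_ι]; exact Set.range_subset_iff.mpr hσU)
  have hσUι : σU ≫ U.ι = σ := IsOpenImmersion.lift_fac _ _ _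
  have hex : ValuativeCriterion.Existence sY :=
    ((UniversallyClosed.eq_valuativeCriterion.le _ _ _) inferInstance).1
  have hw : (σU ≫ g) ≫ sY = a ≫ X.fromSpecStalk x ≫ sX := by
    rw [Category.assoc, hg, reassoc_of% hσUι]
    exact Category.assoc _ _ _
  let Sq : ValuativeCommSq sY :=
    { R := R, K := K, i₁ := σU ≫ g, i₂ := X.fromSpecStalk x ≫ sX, commSq := ⟨hw⟩ }
  obtain ⟨⟨l, hl₁', hl₂'⟩⟩ := (hex Sq).exists_lift
  have hl₁ : a ≫ (show Spec R ⟶ Y from l) = σU ≫ g := hl₁'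
  have hl₂ : (show Spec R ⟶ Y from l) ≫ sY = X.fromSpecStalk x ≫ sX := hl₂'
  obtain ⟨W, hxW, gW, hgW, hgWs⟩ := spread_out_of_isGermInjective' (sX := sX) (sY := sY) (x := x) l hl₂
  let V := W ⊓ V₀
  refine ⟨V, ⟨hxW, hxV₀⟩, X.homOfLE inf_le_left ≫ gW, by rw [Category.assoc, hgWs, Scheme.homOfLE_ι_assoc], ?_⟩
  let σV : Spec (CommRingCat.of K) ⟶ (U ⊓ V : X.Opens) :=
    IsOpenImmersion.lift (U ⊓ V : X.Opens).ι σ (by
      rw [Scheme.Opens.range_ι]
      refine Set.range_subset_iff.mpr fun p => ⟨hσU p, ?_⟩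
      rw [hrange]
      exact (specializes_iff_mem_closure.mpr (hV₀ hxV₀)).mem_open V.isOpen ⟨hxW, hxV₀⟩)
  have hσVι : σV ≫ (U ⊓ V : X.Opens).ι = σ := IsOpenImmersion.lift_fac _ _ _
  haveI : IsDominant σV := ⟨fun z => by
    have hz : X.fromSpecStalk x (⊥ : PrimeSpectrum R) ⤳ (U ⊓ V : X.Opens).ι z := by
      refine specializes_iff_mem_closure.mpr (hV₀ ?_)
      exact ((Scheme.Opens.range_ι _).subset ⟨z, rfl⟩ : _ ∈ ((U ⊓ V : X.Opens) : Set X)).2.2
    haveI : Nonempty (Spec (CommRingCat.of K)) := ⟨(⊥ : PrimeSpectrum K)⟩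
    obtain ⟨p⟩ := this
    have h' : σV p ⤳ z := by
      refine (U ⊓ V : X.Opens).ι.isOpenEmbedding.isInducing.specializes_iff.mp ?_
      rwa [← Scheme.Hom.comp_apply, hσVι, hrange]
    refine closure_mono ?_ h'.mem_closure
    exact Set.singleton_subset_iff.mpr (Set.mem_range_self p)⟩
  refine ext_of_isDominant_of_isSeparated sY ?_ σV ?_
  · simp only [Category.assoc, hgWs, hg, Scheme.homOfLE_ι_assoc]
  · have e1 : σV ≫ X.homOfLE (inf_le_left : U ⊓ V ≤ U) = σU := by
      rw [← cancel_mono U.ι, Category.assoc, Scheme.homOfLE_ι, hσVι, hσUι]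
    have e2 : σV ≫ X.homOfLE (inf_le_right : U ⊓ V ≤ V) ≫ X.homOfLE (inf_le_left : V ≤ W) =
        a ≫ W.fromSpecStalkOfMem x hxW := by
      rw [← cancel_mono W.ι]
      simp only [Category.assoc, Scheme.homOfLE_ι, Scheme.Opens.fromSpecStalkOfMem_ι, hσVι]
      rfl
    rw [reassoc_of% e1, ← Category.assoc (X.homOfLE _) (X.homOfLE _) gW, ← Category.assoc σV _ gW, e2,
      Category.assoc, ← hgW]
    exact hl₁

variable (k : Type u) [Field k]

/-- closed points of a normal curve have discrete valuation rings -/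
theorem isDiscreteValuationRing_stalk [IsLocallyNoetherian X] (hnorm : Pi1.IsNormalScheme X) (x : X)
    (hd : ringKrullDim (X.presheaf.stalk x) = 1) :
    ∃ _ : IsDomain (X.presheaf.stalk x), IsDiscreteValuationRing (X.presheaf.stalk x) := by
  haveI := (hnorm x).1
  haveI := (hnorm x).2
  refine ⟨inferInstance, ?_⟩
  have hnf : ¬ IsField (X.presheaf.stalk x) := fun h => by
    rw [ringKrullDim_eq_zero_of_isField h] at hd
    exact zero_ne_one hd
  have h03 : IsDiscreteValuationRing (X.presheaf.stalk x) ↔ IsIntegrallyClosed (X.presheaf.stalk x) ∧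
      ∃! P : Ideal (X.presheaf.stalk x), P ≠ ⊥ ∧ P.IsPrime :=
    (IsDiscreteValuationRing.TFAE (X.presheaf.stalk x) hnf).out 0 3
  refine h03.mpr ⟨inferInstance, ?_⟩
  haveI : Ring.KrullDimLE 1 (X.presheaf.stalk x) := Ring.krullDimLE_iff.mpr hd.le
  refine ExistsUnique.intro (maximalIdeal (X.presheaf.stalk x))
    ⟨fun h => hnf (isField_iff_maximalIdeal_eq.mpr h), inferInstance⟩ fun P hP => ?_
  exact eq_maximalIdeal (Ring.krullDimLE_one_iff_of_noZeroDivisors.mp inferInstance P hP.1 hP.2)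

/-- a rational map from a normal curve to a proper scheme extends uniquely -/
theorem existsUnique_extension [X.Over (Spec (CommRingCat.of k))]
    [LocallyOfFiniteType (X ↘ (Spec (CommRingCat.of k)))] [QuasiCompact (X ↘ (Spec (CommRingCat.of k)))]
    (hcurve : ∀ x : X, IsClosed ({x} : Set X) → ringKrullDim (X.presheaf.stalk x) = 1)
    (hnorm : Pi1.IsNormalScheme X) (sY : Y ⟶ Spec (CommRingCat.of k)) [IsProper sY]
    (U : X.Opens) (hU : Dense (U : Set X)) (g : (U : Scheme.{u}) ⟶ Y)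
    (hg : g ≫ sY = U.ι ≫ (X ↘ (Spec (CommRingCat.of k)))) :
    ∃! g' : X ⟶ Y, U.ι ≫ g' = g ∧ g' ≫ sY = X ↘ (Spec (CommRingCat.of k)) := by
  haveI : IsLocallyNoetherian X := LocallyOfFiniteType.isLocallyNoetherian (X ↘ (Spec (CommRingCat.of k)))
  haveI : CompactSpace X := QuasiCompact.compactSpace_of_compactSpace (X ↘ (Spec (CommRingCat.of k)))
  haveI : IsNoetherian X := { }
  haveI : IsReduced X := by
    haveI : ∀ x, _root_.IsReduced (X.presheaf.stalk x) := fun x => by
      haveI := (hnorm x).1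
      infer_instance
    exact isReduced_of_isReduced_stalk X
  haveI : IsDominant U.ι := ⟨by rw [DenseRange, U.range_ι]; exact hU⟩
  have uniq : ∀ g₁ g₂ : X ⟶ Y, U.ι ≫ g₁ = U.ι ≫ g₂ → g₁ ≫ sY = g₂ ≫ sY → g₁ = g₂ :=
    fun g₁ g₂ h h' => ext_of_isDominant_of_isSeparated sY h' U.ι h
  -- the cover
  have hloc : ∀ x : X, IsClosed ({x} : Set X) → ∃ (V : X.Opens) (_ : x ∈ V) (gV : (V : Scheme.{u}) ⟶ Y),
      gV ≫ sY = V.ι ≫ (X ↘ (Spec (CommRingCat.of k))) ∧
      X.homOfLE (inf_le_right : U ⊓ V ≤ V) ≫ gV = X.homOfLE (inf_le_left : U ⊓ V ≤ U) ≫ g := by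
    intro x hx
    obtain ⟨_, _⟩ := isDiscreteValuationRing_stalk hnorm x (hcurve x hx)
    exact exists_extension_at _ sY U hU g hg x
  choose V hV gV hgV hgVU using hloc
  let I := Option {x : X // IsClosed ({x} : Set X)}
  let W : I → X.Opens := fun o => o.elim U fun x => V x.1 x.2
  let gw : ∀ o : I, (W o : Scheme.{u}) ⟶ Y := fun o => match o with
    | none => g
    | some x => gV x.1 x.2
  have hgw : ∀ o, gw o ≫ sY = (W o).ι ≫ (X ↘ (Spec (CommRingCat.of k))) := by
    rintro (_ | x)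
    · exact hg
    · exact hgV x.1 x.2
  have hgwU : ∀ o, X.homOfLE (inf_le_right : U ⊓ W o ≤ W o) ≫ gw o =
      X.homOfLE (inf_le_left : U ⊓ W o ≤ U) ≫ g := by
    rintro (_ | x)
    · rfl
    · exact hgVU x.1 x.2
  have hcov : iSup W = ⊤ := by
    refine eq_top_iff.mpr fun y _ => ?_
    obtain ⟨z, hz, hzc⟩ := IsClosed.exists_closed_singleton (X := X) isClosed_closure
      (show (closure ({y} : Set X)).Nonempty from ⟨y, subset_closure rfl⟩)
    exact Opens.mem_iSup.mpr ⟨some ⟨z, hzc⟩,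
      (specializes_iff_mem_closure.mpr hz).mem_open (V z hzc).isOpen (hV z hzc)⟩
  let 𝒲 : X.OpenCover := X.openCoverOfIsOpenCover W hcov
  have hcompat : ∀ o o', Limits.pullback.fst (𝒲.f o) (𝒲.f o') ≫ gw o =
      Limits.pullback.snd (𝒲.f o) (𝒲.f o') ≫ gw o' := by
    intro o o'
    let q := (isPullback_opens_inf (W o) (W o')).isoPullback
    rw [← cancel_epi q.hom]
    change q.hom ≫ Limits.pullback.fst (W o).ι (W o').ι ≫ _ = q.hom ≫ Limits.pullback.snd (W o).ι (W o').ι ≫ _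
    rw [(isPullback_opens_inf (W o) (W o')).isoPullback_hom_fst_assoc,
      (isPullback_opens_inf (W o) (W o')).isoPullback_hom_snd_assoc]
    let Q := W o ⊓ W o'
    let d := X.homOfLE (inf_le_right : U ⊓ Q ≤ Q)
    haveI : IsDominant d := ⟨by
      rw [DenseRange, dense_iff_inter_open]
      rintro O hO ⟨z, hz⟩
      obtain ⟨O', hO', rfl⟩ := Q.ι.isOpenEmbedding.isInducing.isOpen_iff.mp hO
      obtain ⟨w, ⟨hwO, hwQ⟩, hwU⟩ := hU.inter_open_nonempty (O' ∩ Q) (hO'.inter Q.isOpen)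
        ⟨Q.ι z, hz, Q.range_ι.subset ⟨z, rfl⟩⟩
      refine ⟨d ⟨w, hwU, hwQ⟩, ?_, Set.mem_range_self _⟩
      change Q.ι (d _) ∈ O'
      rw [← Scheme.Hom.comp_apply, Scheme.homOfLE_ι]
      exact hwO⟩
    refine ext_of_isDominant_of_isSeparated sY ?_ d ?_
    · simp only [Category.assoc, hgw, Scheme.homOfLE_ι_assoc]
    · simp only [d, Q, ← Category.assoc, Scheme.homOfLE_homOfLE]
      have e : ∀ o'' (h : U ⊓ Q ≤ W o''), X.homOfLE h ≫ gw o'' =
          X.homOfLE (inf_le_left : U ⊓ Q ≤ U) ≫ g := by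
        intro o'' h
        rw [← Scheme.homOfLE_homOfLE X (le_inf inf_le_left h : U ⊓ Q ≤ U ⊓ W o'') inf_le_right,
          Category.assoc, hgwU, ← Category.assoc, Scheme.homOfLE_homOfLE]
      rw [e o, e o']
  refine ⟨𝒲.glueMorphisms gw hcompat, ⟨?_, ?_⟩, ?_⟩
  · exact 𝒲.ι_glueMorphisms gw hcompat none
  · refine Scheme.Cover.hom_ext 𝒲 _ _ fun o => ?_
    rw [𝒲.ι_glueMorphisms_assoc]
    exact hgw o
  · rintro g' ⟨h1, h2⟩
    refine uniq _ _ ?_ ?_
    · rw [h1]; exact (𝒲.ι_glueMorphisms gw hcompat none).symm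
    · rw [h2]
      refine (Scheme.Cover.hom_ext 𝒲 _ _ fun o => ?_).symm
      rw [𝒲.ι_glueMorphisms_assoc]
      exact hgw o

end Groth.Agent.NormalSch
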