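import Groth.Prelude.Def_Pi1
import Mathlib

/-!
# Sections of a normal integral scheme are integrally closed
-/

set_option autoImplicit false
set_option backward.isDefEq.respectTransparency false
set_option backward.defeqAttrib.useBackward true

universe u

open CategoryTheory AlgebraicGeometry TopologicalSpace Opposite

namespace Groth.Agent.NormalSch

variable {X : Scheme.{u}} [IsIntegral X]

lemma genericPoint_mem (U : X.Opens) [Nonempty U] : genericPoint X ∈ U :=
  (genericPoint_spec X).mem_open_set_iff U.isOpen |>.mpr (by simpa using ‹Nonempty U›)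

/-- an element of the function field lying in every local ring of `U` is a section over `U` -/
theorem exists_section (U : X.Opens) [Nonempty U] (f : X.functionField)
    (h : ∀ x ∈ U, f ∈ Set.range (algebraMap (X.presheaf.stalk x) X.functionField)) :
    ∃ s : Γ(X, U), X.germToFunctionField U s = f := by
  have hloc : ∀ x : U, ∃ (V : X.Opens) (_ : (x : X) ∈ V) (_ : V ≤ U) (t : Γ(X, V)),
      ∀ (hV : genericPoint X ∈ V), X.presheaf.germ V _ hV t = f := by
    intro x
    obtain ⟨a, ha⟩ := h x x.2
    obtain ⟨V, hxV, t, rfl⟩ := X.presheaf.exists_germ_eq a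
    refine ⟨V ⊓ U, ⟨hxV, x.2⟩, inf_le_right, X.presheaf.map (homOfLE inf_le_left).op t, fun hV => ?_⟩
    haveI : Nonempty V := ⟨⟨x, hxV⟩⟩
    rw [TopCat.Presheaf.germ_res_apply, ← ha, Scheme.algebraMap_germ_eq_germToFunctionField (hx := hxV)]
  choose V hxV hVU t ht using hloc
  have hcomp : TopCat.Presheaf.IsCompatible X.presheaf V t := by
    intro i j
    rcases isEmpty_or_nonempty ↥(V i ⊓ V j) with he | hne
    · haveI : Subsingleton Γ(X, V i ⊓ V j) := by
        rw [show V i ⊓ V j = ⊥ from Opens.ext (Set.isEmpty_coe_sort.mp he)]; infer_instance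
      exact Subsingleton.elim (α := Γ(X, V i ⊓ V j)) _ _
    · haveI : Nonempty (V i ⊓ V j : X.Opens) := hne
      apply X.germToFunctionField_injective (V i ⊓ V j)
      change X.presheaf.germ _ _ (genericPoint_mem (V i ⊓ V j)) _ =
        X.presheaf.germ _ _ (genericPoint_mem (V i ⊓ V j)) _
      rw [TopCat.Presheaf.germ_res_apply, TopCat.Presheaf.germ_res_apply, ht, ht]
  have hcov : iSup V = U := le_antisymm (iSup_le hVU) fun x hx => Opens.mem_iSup.mpr ⟨⟨x, hx⟩, hxV ⟨x, hx⟩⟩
  obtain ⟨s, hs, -⟩ := X.sheaf.existsUnique_gluing' V U (fun i => homOfLE (hVU i)) hcov.ge t hcomp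
  refine ⟨s, ?_⟩
  obtain ⟨x₀⟩ := ‹Nonempty U›
  haveI : Nonempty (V x₀) := ⟨⟨x₀.1, hxV x₀⟩⟩
  rw [← ht x₀ (genericPoint_mem (V x₀)), ← hs x₀]
  exact (TopCat.Presheaf.germ_res_apply X.presheaf (homOfLE (hVU x₀)) _ (genericPoint_mem (V x₀)) s).symm

/-- an element of the function field integral over `Γ(X, U)` is a section over `U` -/
theorem exists_section_of_isIntegral (hX : Pi1.IsNormalScheme X) (U : X.Opens) [Nonempty U]
    (f : X.functionField) (hf : IsIntegral Γ(X, U) f) : ∃ s : Γ(X, U), X.germToFunctionField U s = f := by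
  refine exists_section U f fun x hx => ?_
  letI := X.presheaf.algebra_section_stalk (⟨x, hx⟩ : U)
  haveI := functionField_isScalarTower X U ⟨x, hx⟩
  haveI := (hX x).2
  exact IsIntegrallyClosed.isIntegral_iff.mp (hf.tower_top (A := X.presheaf.stalk x))

theorem isIntegrallyClosed_section (hX : Pi1.IsNormalScheme X) (U : X.Opens) [Nonempty U] :
    IsIntegrallyClosed Γ(X, U) := by
  haveI : IsDomain Γ(X, U) := inferInstance
  let K := FractionRing Γ(X, U)
  let ι : K →+* X.functionField := IsFractionRing.lift (X.germToFunctionField_injective U)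
  refine (isIntegrallyClosed_iff K).mpr fun {y} hy => ?_
  letI : Algebra K X.functionField := ι.toAlgebra
  haveI : IsScalarTower Γ(X, U) K X.functionField := IsScalarTower.of_algebraMap_eq fun a =>
    (IsFractionRing.lift_algebraMap (X.germToFunctionField_injective U) a).symm
  obtain ⟨s, hs⟩ := exists_section_of_isIntegral hX U (ι y) (hy.algebraMap)
  refine ⟨s, ι.injective ?_⟩
  rw [← hs]
  exact IsFractionRing.lift_algebraMap _ s

/-- normality can be tested on affine opens -/
theorem isNormalScheme_of_affine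
    (h : ∀ (U : X.Opens) [Nonempty U], IsAffineOpen U → IsIntegrallyClosed Γ(X, U)) :
    Pi1.IsNormalScheme X := by
  intro x
  refine ⟨inferInstance, ?_⟩
  obtain ⟨_, ⟨U, hU, rfl⟩, hxU, -⟩ :=
    X.isBasis_affineOpens.exists_subset_of_mem_open (Set.mem_univ x) isOpen_univ
  haveI : Nonempty U := ⟨⟨x, hxU⟩⟩
  haveI := h U hU
  letI := X.presheaf.algebra_section_stalk (⟨x, hxU⟩ : U)
  haveI := hU.isLocalization_stalk ⟨x, hxU⟩
  exact isIntegrallyClosed_of_isLocalization _ (hU.primeIdealOf ⟨x, hxU⟩).asIdeal.primeCompl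
    (Ideal.primeCompl_le_nonZeroDivisors _)

end Groth.Agent.NormalSch
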