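import Groth.Agent.NormalSch.Curve
import Groth.Agent.DVRCrit.Spread
import Groth.Agent.S4443

/-!
# Points of normal complete curves and valuation rings; morphisms from function field embeddings
-/

set_option autoImplicit false
set_option backward.isDefEq.respectTransparency false
set_option backward.defeqAttrib.useBackward true

universe u

open CategoryTheory AlgebraicGeometry TopologicalSpace Opposite IsLocalRing

namespace Groth.Agent.NormalSch

variable {k : Type u} [Field k] {X : Scheme.{u}} [X.Over (Spec (CommRingCat.of k))]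

/-- the structure map seen at a point -/
theorem fromSpecStalk_over (x : X) :
    X.fromSpecStalk x ≫ (X ↘ (Spec (CommRingCat.of k))) = Spec.map (CommRingCat.ofHom (Curv2.stalkMap k X x)) := by
  let s := X ↘ (Spec (CommRingCat.of k))
  have h1 : X.toSpecΓ ≫ Spec.map s.appTop = s ≫ (Spec (CommRingCat.of k)).toSpecΓ :=
    (Scheme.toSpecΓ_naturality s).symm
  rw [← SpecMap_ΓSpecIso_hom] at h1
  have h2 : s = X.toSpecΓ ≫ Spec.map s.appTop ≫ Spec.map (Scheme.ΓSpecIso (CommRingCat.of k)).inv := by
    rw [reassoc_of% h1, ← Spec.map_comp, Iso.inv_hom_id, Spec.map_id, Category.comp_id]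
  change X.fromSpecStalk x ≫ s = _
  conv_lhs => rw [h2]
  rw [Scheme.fromSpecStalk_toSpecΓ_assoc, ← Spec.map_comp, ← Spec.map_comp]
  congr 1

attribute [local instance] Curv2.stalkAlgebra

variable (k)
variable [IsIntegral X] [LocallyOfFiniteType (X ↘ (Spec (CommRingCat.of k)))]
  [QuasiCompact (X ↘ (Spec (CommRingCat.of k)))] [IsSeparated (X ↘ (Spec (CommRingCat.of k)))]
  (hX : ∀ x : X, IsClosed ({x} : Set X) → ringKrullDim (X.presheaf.stalk x) = 1) (hnorm : Pi1.IsNormalScheme X)

include k hX hnorm in
theorem isDVR_of_ne_generic {x : X} (hx : x ≠ genericPoint X) :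
    IsDiscreteValuationRing (X.presheaf.stalk x) := by
  have hc : IsClosed ({x} : Set X) := by
    by_contra h; exact hx ((Groth.Agent.S4443.result k X hX).1 x h)
  haveI : IsLocallyNoetherian X := LocallyOfFiniteType.isLocallyNoetherian (X ↘ (Spec (CommRingCat.of k)))
  obtain ⟨_, h⟩ := isDiscreteValuationRing_stalk hnorm x (hX x hc)
  exact h

include k hX hnorm in
theorem exists_valuationSubring {x : X} (hx : x ≠ genericPoint X) :
    ∃ R : ValuationSubring X.functionField, R ≠ ⊤ ∧
      (R : Set X.functionField) = Set.range (algebraMap (X.presheaf.stalk x) X.functionField) := by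
  haveI := isDVR_of_ne_generic k hX hnorm hx
  let R : ValuationSubring X.functionField :=
    { toSubring := (algebraMap (X.presheaf.stalk x) X.functionField).range
      mem_or_inv_mem' := fun a => by
        obtain ⟨r, hr⟩ := ValuationRing.isInteger_or_isInteger (X.presheaf.stalk x) a
        · exact Or.inl ⟨r, hr⟩
        · rename_i h
          obtain ⟨r, hr⟩ := h
          exact Or.inr ⟨r, hr⟩ }
  refine ⟨R, fun htop => ?_, rfl⟩
  obtain ⟨π, hπ⟩ := IsDiscreteValuationRing.exists_irreducible (X.presheaf.stalk x)
  have hm : (algebraMap (X.presheaf.stalk x) X.functionField π)⁻¹ ∈ R := htop ▸ trivial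
  obtain ⟨r, hr⟩ := hm
  refine hπ.not_isUnit (IsUnit.of_mul_eq_one r (IsFractionRing.injective (X.presheaf.stalk x) X.functionField ?_))
  have h0 : algebraMap (X.presheaf.stalk x) X.functionField π ≠ 0 :=
    (map_ne_zero_iff _ (IsFractionRing.injective (X.presheaf.stalk x) X.functionField)).mpr hπ.ne_zero
  rw [map_mul, map_one, hr, mul_inv_cancel₀ h0]

include k hX hnorm in
/-- every nontrivial valuation ring over `k` has exactly one centre, whose local ring it is -/
theorem existsUnique_centre [IsProper (X ↘ (Spec (CommRingCat.of k)))]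
    (R : ValuationSubring X.functionField) (hR : R ≠ ⊤)
    (hk : ∀ c : k, algebraMap k X.functionField c ∈ R) :
    ∃! x : X, (R : Set X.functionField) = Set.range (algebraMap (X.presheaf.stalk x) X.functionField) := by
  let s := X ↘ (Spec (CommRingCat.of k))
  let η := genericPoint X
  have hex : ValuativeCriterion.Existence s :=
    ((UniversallyClosed.eq_valuativeCriterion.le _ _ _) inferInstance).1
  let r : k →+* R := (algebraMap k X.functionField).codRestrict R.toSubring hk
  have hw : X.fromSpecStalk η ≫ s = DVRCrit.incl R ≫ Spec.map (CommRingCat.ofHom r) := by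
    rw [fromSpecStalk_over, ← Spec.map_comp]
    rfl
  let Sq : ValuativeCommSq s :=
    { R := R, K := X.functionField, i₁ := X.fromSpecStalk η, i₂ := Spec.map (CommRingCat.ofHom r),
      commSq := ⟨hw⟩ }
  obtain ⟨⟨l, hl₁', -⟩⟩ := (hex Sq).exists_lift
  have hl₁ : DVRCrit.incl R ≫ (show Spec (CommRingCat.of R) ⟶ X from l) = X.fromSpecStalk η := hl₁'
  let x := (show Spec (CommRingCat.of R) ⟶ X from l) (closedPoint R)
  have hval : ∀ a : X.presheaf.stalk x, algebraMap (X.presheaf.stalk x) X.functionField a =
      ((Scheme.stalkClosedPointTo (show Spec (CommRingCat.of R) ⟶ X from l) a : R) : X.functionField) :=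
    DVRCrit.stalk_of_morphism R _ hl₁
  have hxη : x ≠ genericPoint X := by
    intro h
    refine hR (eq_top_iff.mpr fun a _ => ?_)
    obtain ⟨b, rfl⟩ : a ∈ Set.range (algebraMap (X.presheaf.stalk x) X.functionField) := by
      have key : ∀ y, y = genericPoint X →
          Function.Surjective (algebraMap (X.presheaf.stalk y) X.functionField) := by
        rintro y rfl c
        exact ⟨c, congr($(TopCat.Presheaf.stalkSpecializes_refl X.presheaf (genericPoint X)) c)⟩
      exact key x h a
    rw [hval]; exact SetLike.coe_mem _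
  haveI := isDVR_of_ne_generic k hX hnorm hxη
  have hRx : (R : Set X.functionField) = Set.range (algebraMap (X.presheaf.stalk x) X.functionField) := by
    refine Set.Subset.antisymm (fun a ha => ?_) ?_
    · by_contra hcon
      refine hR (eq_top_iff.mpr fun c _ => ?_)
      obtain ⟨π, hπ⟩ := IsDiscreteValuationRing.exists_irreducible (X.presheaf.stalk x)
      have hA : ∀ z : X.presheaf.stalk x, algebraMap (X.presheaf.stalk x) X.functionField z ∈ R :=
        fun z => by rw [hval]; exact SetLike.coe_mem _
      -- `π⁻¹ ∈ R`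
      have hπR : (algebraMap (X.presheaf.stalk x) X.functionField π)⁻¹ ∈ R := by
        rcases ValuationRing.isInteger_or_isInteger (X.presheaf.stalk x) a with ⟨z, hz⟩ | ⟨z, hz⟩
        · exact absurd ⟨z, hz⟩ hcon
        · have hz0 : z ≠ 0 := fun h => hcon ⟨0, by
            rw [h, map_zero] at hz
            rw [map_zero, inv_eq_zero.mp hz.symm]⟩
          obtain ⟨n, v, rfl⟩ := IsDiscreteValuationRing.eq_unit_mul_pow_irreducible hz0 hπ
          rcases n with _ | n
          · refine absurd ⟨↑v⁻¹, ?_⟩ hcon
            rw [map_units_inv, show algebraMap (X.presheaf.stalk x) X.functionField v = a⁻¹ by simpa using hz, inv_inv]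
          · have ha0 : a ≠ 0 := fun h => hcon ⟨0, by rw [h, map_zero]⟩
            have hb : (algebraMap (X.presheaf.stalk x) X.functionField π)⁻¹ =
                algebraMap (X.presheaf.stalk x) X.functionField ((v : X.presheaf.stalk x) * π ^ n) * a := by
              have h0 : algebraMap (X.presheaf.stalk x) X.functionField π ≠ 0 :=
                (map_ne_zero_iff _ (IsFractionRing.injective (X.presheaf.stalk x) X.functionField)).mpr hπ.ne_zero
              refine inv_eq_of_mul_eq_one_right ?_
              rw [← mul_assoc, ← map_mul,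
                show π * ((v : X.presheaf.stalk x) * π ^ n) = v * π ^ (n + 1) by ring, hz, inv_mul_cancel₀ ha0]
            rw [hb]
            exact mul_mem (hA _) ha
      obtain ⟨u, w, hw0, rfl⟩ := IsFractionRing.div_surjective (X.presheaf.stalk x) c
      obtain ⟨m, v, rfl⟩ := IsDiscreteValuationRing.eq_unit_mul_pow_irreducible (nonZeroDivisors.ne_zero hw0) hπ
      rw [div_eq_mul_inv, map_mul, map_pow, mul_inv, ← inv_pow, ← map_units_inv]
      exact mul_mem (hA _) (mul_mem (hA _) (pow_mem hπR m))
    · rintro _ ⟨z, rfl⟩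
      exact (hval z) ▸ SetLike.coe_mem _
  refine ⟨x, hRx, fun y hy => ?_⟩
  have hy1 : y ≠ genericPoint X := by
    rintro rfl
    refine hR (eq_top_iff.mpr fun a _ => ?_)
    change a ∈ (R : Set X.functionField)
    rw [hy]
    exact ⟨a, congr($(TopCat.Presheaf.stalkSpecializes_refl X.presheaf (genericPoint X)) a)⟩
  -- compare the two centres
  let ιy : X.presheaf.stalk y →+* R := (algebraMap (X.presheaf.stalk y) X.functionField).codRestrict R.toSubring
    fun z => (show algebraMap (X.presheaf.stalk y) X.functionField z ∈ (R : Set X.functionField) from hy ▸ ⟨z, rfl⟩)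
  have hbij : Function.Bijective ιy := by
    refine ⟨fun a b hab => IsFractionRing.injective (X.presheaf.stalk y) X.functionField (congrArg Subtype.val hab),
      fun ⟨a, ha⟩ => ?_⟩
    obtain ⟨z, hz⟩ : a ∈ Set.range (algebraMap (X.presheaf.stalk y) X.functionField) := hy ▸ ha
    exact ⟨z, Subtype.ext hz⟩
  let ly : Spec (CommRingCat.of R) ⟶ X := Spec.map (CommRingCat.ofHom ιy) ≫ X.fromSpecStalk y
  have hly : DVRCrit.incl R ≫ ly = X.fromSpecStalk η := by
    rw [← Category.assoc, ← Spec.map_comp, ← Scheme.SpecMap_stalkSpecializes_fromSpecStalk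
      ((genericPoint_spec X).specializes trivial : η ⤳ y)]
    rfl
  have hl : (show Spec (CommRingCat.of R) ⟶ X from l) = ly := by
    haveI : IsDominant (DVRCrit.incl R) := by
      rw [isDominant_iff]
      exact PrimeSpectrum.denseRange_comap_iff_ker_le_nilRadical _ |>.mpr
        (((RingHom.injective_iff_ker_eq_bot _).mp Subtype.val_injective).le.trans bot_le)
    refine ext_of_isDominant_of_isSeparated s ?_ (DVRCrit.incl R) (hl₁.trans hly.symm)
    refine eq_of_generic (Y := Spec (CommRingCat.of k)) (S := Spec (CommRingCat.of k)) (𝟙 _) ?_ (DVRCrit.incl R) ?_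
    · rw [Category.comp_id, Category.comp_id]
      haveI : Mono (CommRingCat.ofHom R.subtype) := ConcreteCategory.mono_of_injective _ Subtype.val_injective
      obtain ⟨a, ha⟩ := Spec.map_surjective ((show Spec (CommRingCat.of R) ⟶ X from l) ≫ s)
      obtain ⟨b, hb⟩ := Spec.map_surjective (ly ≫ s)
      rw [← ha, ← hb]
      congr 1
      rw [← cancel_mono (CommRingCat.ofHom R.subtype)]
      apply Spec.map_injective
      rw [Spec.map_comp, Spec.map_comp, ha, hb, reassoc_of% hl₁, reassoc_of% hly]
    · rw [reassoc_of% hl₁, reassoc_of% hly]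
  change y = (show Spec (CommRingCat.of R) ⟶ X from l) (closedPoint R)
  rw [hl, Scheme.Hom.comp_apply]
  have : Spec.map (CommRingCat.ofHom ιy) (closedPoint R) = closedPoint (X.presheaf.stalk y) := by
    haveI : IsLocalHom ιy := ⟨fun a ha => by
      obtain ⟨b, hb⟩ := hbij.2 ↑(ha.unit⁻¹)
      refine IsUnit.of_mul_eq_one b (hbij.1 ?_)
      rw [map_mul, map_one, hb]
      exact ha.mul_val_inv⟩
    exact IsLocalRing.comap_closedPoint ιy
  rw [this]
  erw [Scheme.fromSpecStalk_closedPoint]

include k hX hnorm in
/-- an embedding of function fields over `k` comes from a unique morphism -/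
theorem existsUnique_of_functionField_hom {Y : Scheme.{u}} [Y.Over (Spec (CommRingCat.of k))]
    [IsProper (Y ↘ (Spec (CommRingCat.of k)))] [IsIntegral Y]
    (φ : Y.functionField →ₐ[k] X.functionField) :
    ∃! u : X ⟶ Y, u ≫ (Y ↘ (Spec (CommRingCat.of k))) = X ↘ (Spec (CommRingCat.of k)) ∧
      ∃ hu : u.base (genericPoint X) = genericPoint Y,
        (Y.presheaf.stalkSpecializes (specializes_of_eq hu) ≫ u.stalkMap (genericPoint X)).hom =
          (φ : Y.functionField →+* X.functionField) := by
  let sX := X ↘ (Spec (CommRingCat.of k))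
  let sY := Y ↘ (Spec (CommRingCat.of k))
  let ηX := genericPoint X
  let φc : Y.functionField ⟶ X.functionField := CommRingCat.ofHom φ.toRingHom
  let τ : Spec X.functionField ⟶ Y := Spec.map φc ≫ Y.fromSpecStalk (genericPoint Y)
  have hτ : τ ≫ sY = X.fromSpecStalk ηX ≫ sX := by
    rw [Category.assoc, fromSpecStalk_over, fromSpecStalk_over, ← Spec.map_comp]
    congr 1
    ext c
    exact φ.commutes c
  haveI : IsLocallyNoetherian X := LocallyOfFiniteType.isLocallyNoetherian sX
  obtain ⟨U, hηU, g, hτg, hg⟩ := spread_out_of_isGermInjective' (sX := sX) (sY := sY) (x := ηX) τ hτ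
  have hU : Dense (U : Set X) :=
    U.isOpen.dense ⟨ηX, hηU⟩
  obtain ⟨u, ⟨hUu, hus⟩, -⟩ := existsUnique_extension k hX hnorm sY U hU g hg
  -- a morphism with the required generic behaviour is determined by `τ`
  have hchar : ∀ u : X ⟶ Y,
      X.fromSpecStalk ηX ≫ u = τ ↔ ∃ hu : u.base (genericPoint X) = genericPoint Y,
        (Y.presheaf.stalkSpecializes (specializes_of_eq hu) ≫ u.stalkMap (genericPoint X)).hom =
          (φ : Y.functionField →+* X.functionField) := by
    intro u
    have hfac : ∀ hu : u (genericPoint X) = genericPoint Y, X.fromSpecStalk ηX ≫ u =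
        Spec.map (Y.presheaf.stalkSpecializes (specializes_of_eq hu) ≫ u.stalkMap (genericPoint X)) ≫
          Y.fromSpecStalk (genericPoint Y) := by
      intro hu
      rw [Spec.map_comp, Category.assoc, Scheme.SpecMap_stalkSpecializes_fromSpecStalk,
        Scheme.SpecMap_stalkMap_fromSpecStalk]
    constructor
    · intro h
      have hu : u (genericPoint X) = genericPoint Y := by
        have h1 := congr($h (closedPoint X.functionField))
        rw [Scheme.Hom.comp_apply, Scheme.Hom.comp_apply] at h1
        haveI : Subsingleton (PrimeSpectrum Y.functionField) := inferInstance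
        rw [Subsingleton.elim (α := PrimeSpectrum Y.functionField) (Spec.map φc (closedPoint X.functionField))
          (closedPoint Y.functionField)] at h1
        erw [Scheme.fromSpecStalk_closedPoint, Scheme.fromSpecStalk_closedPoint] at h1
        exact h1
      refine ⟨hu, ?_⟩
      rw [hfac hu] at h
      have := Spec.map_injective ((cancel_mono (Y.fromSpecStalk (genericPoint Y))).mp h)
      rw [this]
      rfl
    · rintro ⟨hu, h⟩
      rw [hfac hu]
      congr 2
      exact CommRingCat.hom_ext h
  refine ⟨u, ⟨hus, (hchar u).mp ?_⟩, ?_⟩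
  · rw [hτg, ← hUu, ← Scheme.Opens.fromSpecStalkOfMem_ι U ηX hηU, Category.assoc]
  · rintro u' ⟨hu's, hu'⟩
    haveI : IsDominant (X.fromSpecStalk ηX) := ⟨fun z => by
      refine closure_mono ?_ ((genericPoint_spec X).specializes (Set.mem_univ z) : ηX ⤳ z).mem_closure
      refine Set.singleton_subset_iff.mpr ⟨closedPoint X.functionField, ?_⟩
      exact Scheme.fromSpecStalk_closedPoint⟩
    refine ext_of_isDominant_of_isSeparated sY (hu's.trans hus.symm) (X.fromSpecStalk ηX) ?_
    rw [(hchar u').mpr hu', hτg, ← hUu, ← Scheme.Opens.fromSpecStalkOfMem_ι U ηX hηU, Category.assoc]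

end Groth.Agent.NormalSch
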