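import Groth.Agent.NormalSch.Birational
import Groth.Agent.ProperFin.Chow

/-!
# Extension of rational sections of integral morphisms over normal schemes
-/

set_option autoImplicit false
set_option backward.isDefEq.respectTransparency false

universe u

open CategoryTheory AlgebraicGeometry

namespace Groth.Agent.NormalSch

variable {X Y : Scheme.{u}} [IsIntegral X]

instance isDominant_fromSpecStalk_genericPoint : IsDominant (X.fromSpecStalk (genericPoint X)) := by
  refine ⟨fun x => ?_⟩
  have h1 : genericPoint X ∈ Set.range (X.fromSpecStalk (genericPoint X)) :=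
    ⟨_, Scheme.fromSpecStalk_closedPoint⟩
  exact closure_mono (Set.singleton_subset_iff.mpr h1)
    (((genericPoint_spec X).specializes trivial).mem_closure)

/-- A rational section of an integral morphism to a normal integral scheme extends to a section. -/
theorem exists_section_of_isIntegralHom (hX : Pi1.IsNormalScheme X) (f : Y ⟶ X) [IsIntegralHom f]
    (σ : Spec (X.presheaf.stalk (genericPoint X)) ⟶ Y) (hσ : σ ≫ f = X.fromSpecStalk (genericPoint X)) :
    ∃ s : X ⟶ Y, s ≫ f = 𝟙 X ∧ X.fromSpecStalk (genericPoint X) ≫ s = σ := by
  let R := X.presheaf.stalk (genericPoint X)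
  haveI : IsDomain R := inferInstanceAs (IsDomain X.functionField)
  haveI : IsIntegral (Spec R) := inferInstance
  haveI : IsIntegral σ.image := Groth.Agent.ProperFin.isIntegral_image σ
  let g := σ.imageι ≫ f
  have hg : σ.toImage ≫ g = X.fromSpecStalk (genericPoint X) := by
    rw [Scheme.Hom.toImage_imageι_assoc, hσ]
  let p : Spec R := IsLocalRing.closedPoint R
  have hp : genericPoint (Spec R) = p := by
    haveI : Subsingleton (Spec R) := inferInstanceAs (Subsingleton (PrimeSpectrum X.functionField))
    exact Subsingleton.elim _ _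
  have hgenZ : σ.toImage p = genericPoint σ.image := by
    have h1 := (genericPoint_spec (Spec R)).image σ.toImage.continuous
    rw [Set.image_univ, σ.toImage.denseRange.closure_eq, hp] at h1
    exact h1.eq (genericPoint_spec σ.image)
  have hgen : g (genericPoint σ.image) = genericPoint X := by
    rw [← hgenZ, ← Scheme.Hom.comp_apply, hg]
    exact Scheme.fromSpecStalk_closedPoint
  have hbir : Function.Surjective (g.stalkMap (genericPoint σ.image)) := by
    rw [← hgenZ]
    intro a
    have hs : Function.Surjective ((σ.toImage ≫ g).stalkMap p) := by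
      rw [Scheme.Hom.stalkMap_congr_hom _ _ hg]
      intro c
      obtain ⟨d, rfl⟩ := (X.fromSpecStalk (genericPoint X)).stalkMap_surjective p c
      obtain ⟨e, rfl⟩ := (ConcreteCategory.bijective_of_isIso (X.presheaf.stalkCongr (.of_eq congr($hg p))).hom).2 d
      exact ⟨e, rfl⟩
    obtain ⟨b, hb⟩ := hs (σ.toImage.stalkMap p a)
    refine ⟨b, ?_⟩
    rw [Scheme.Hom.stalkMap_comp, ConcreteCategory.comp_apply] at hb
    have hF : IsField (σ.image.presheaf.stalk (σ.toImage p)) :=
      hgenZ ▸ Field.toIsField σ.image.functionField
    letI := hF.toField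
    exact RingHom.injective (σ.toImage.stalkMap p).hom hb
  haveI : IsIso g := isIso_of_integral_birational hX g hgen hbir
  refine ⟨inv g ≫ σ.imageι, by rw [Category.assoc]; exact IsIso.inv_hom_id g, ?_⟩
  conv_lhs => rw [← hg]
  rw [Category.assoc, IsIso.hom_inv_id_assoc, Scheme.Hom.toImage_imageι]

/-- Sections of a separated morphism to a reduced irreducible scheme agree if they agree generically. -/
theorem section_ext (f : Y ⟶ X) [IsSeparated f] (s t : X ⟶ Y) (hs : s ≫ f = 𝟙 X) (ht : t ≫ f = 𝟙 X)
    (h : X.fromSpecStalk (genericPoint X) ≫ s = X.fromSpecStalk (genericPoint X) ≫ t) : s = t :=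
  ext_of_isDominant_of_isSeparated f (hs.trans ht.symm) _ h

end Groth.Agent.NormalSch
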