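import Groth.Agent.FinIntClosure.Normalization
import Groth.Agent.CompleteCurve.Field
import Groth.Agent.NormalSch.Birational

/-!
# Normalisation of an integral scheme in a field extension of its function field
-/

set_option autoImplicit false
set_option backward.isDefEq.respectTransparency false
set_option backward.defeqAttrib.useBackward true

universe u

open CategoryTheory AlgebraicGeometry TopologicalSpace Opposite

namespace Groth.Agent.NormalSch

open Groth.Agent.CompleteCurve Groth.Agent.FinIntClosure

variable {X : Scheme.{u}} [IsIntegral X] {K : Type u} [Field K] (φ : X.functionField →+* K)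
  (g : Spec (CommRingCat.of K) ⟶ X)
  (hg : g = Spec.map (CommRingCat.ofHom φ) ≫ X.fromSpecStalk (genericPoint X))
  [QuasiCompact g] [QuasiSeparated g]

lemma generic_normalization :
    g.toNormalization (IsLocalRing.closedPoint K) = genericPoint g.normalization := by
  refine (IsGenericPoint.eq (genericPoint_spec g.normalization) ?_).symm
  have h := g.toNormalization.denseRange.closure_range
  rwa [show Set.range g.toNormalization = {g.toNormalization (IsLocalRing.closedPoint K)} from ?_] at h
  haveI : Subsingleton (PrimeSpectrum K) := inferInstance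
  ext z
  constructor
  · rintro ⟨p, rfl⟩; exact congrArg g.toNormalization (Subsingleton.elim (α := PrimeSpectrum K) p _)
  · rintro rfl; exact ⟨_, rfl⟩

include hg in
/-- the normalisation is normal -/
theorem isNormalScheme_normalization : Pi1.IsNormalScheme g.normalization := by
  intro y
  refine ⟨inferInstance, ?_⟩
  obtain ⟨_, ⟨U, hU, rfl⟩, hyU, -⟩ :=
    X.isBasis_affineOpens.exists_subset_of_mem_open (Set.mem_univ (g.fromNormalization y)) isOpen_univ
  haveI : Nonempty U := ⟨⟨_, hyU⟩⟩
  letI algL : Algebra Γ(X, U) Γ(Spec (CommRingCat.of K), g ⁻¹ᵁ U) := (g.app U).hom.toAlgebra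
  let L := Γ(Spec (CommRingCat.of K), g ⁻¹ᵁ U)
  letI fL : Field L :=
    (MulEquiv.isField (Field.toIsField K) (fieldEquiv φ g hg U).symm.toMulEquiv).toField
  haveI : IsIntegrallyClosed (integralClosure Γ(X, U) L) :=
    IsIntegrallyClosed.of_isIntegrallyClosed_of_isIntegrallyClosedIn _ L
  have hV : IsAffineOpen (g.fromNormalization ⁻¹ᵁ U) := hU.preimage _
  haveI : IsIntegrallyClosed Γ(g.normalization, g.fromNormalization ⁻¹ᵁ U) :=
    IsIntegrallyClosed.of_equiv (g.normalizationObjIso hU).commRingCatIsoToRingEquiv.symm
  haveI : Nonempty (g.fromNormalization ⁻¹ᵁ U) := ⟨⟨y, hyU⟩⟩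
  haveI : IsDomain Γ(g.normalization, g.fromNormalization ⁻¹ᵁ U) :=
    IsIntegral.component_integral (g.fromNormalization ⁻¹ᵁ U : g.normalization.Opens)
  letI := g.normalization.presheaf.algebra_section_stalk (⟨y, hyU⟩ : g.fromNormalization ⁻¹ᵁ U)
  haveI := hV.isLocalization_stalk ⟨y, hyU⟩
  exact isIntegrallyClosed_of_isLocalization _ (hV.primeIdealOf ⟨y, hyU⟩).asIdeal.primeCompl
    (Ideal.primeCompl_le_nonZeroDivisors _)

include hg in
lemma fromNormalization_generic : g.fromNormalization (genericPoint g.normalization) = genericPoint X := by
  rw [← generic_normalization g, ← Scheme.Hom.comp_apply, g.toNormalization_fromNormalization, hg,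
    Scheme.Hom.comp_apply]
  have : Spec.map (CommRingCat.ofHom φ) (IsLocalRing.closedPoint K) =
      IsLocalRing.closedPoint (X.presheaf.stalk (genericPoint X)) :=
    haveI : Subsingleton (PrimeSpectrum X.functionField) := inferInstance
    Subsingleton.elim (α := PrimeSpectrum X.functionField) _ _
  rw [this]
  erw [Scheme.fromSpecStalk_closedPoint]

include hg in
lemma preimage_generic :
    g.fromNormalization ⁻¹' {genericPoint X} = {genericPoint g.normalization} := by
  refine Set.eq_singleton_iff_unique_mem.mpr ⟨fromNormalization_generic φ g hg, fun y hy => ?_⟩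
  exact (eq_of_specializes_of_eq g.fromNormalization ((genericPoint_spec g.normalization).specializes trivial)
    ((fromNormalization_generic φ g hg).trans hy.symm)).symm

/-- the comparison map to `K` at the generic point of the normalisation is injective -/
lemma injective_stalkClosedPointTo :
    Function.Injective (Scheme.stalkClosedPointTo g.toNormalization) := by
  have hF : IsField (g.normalization.presheaf.stalk (g.toNormalization (IsLocalRing.closedPoint K))) :=
    (generic_normalization g) ▸ Field.toIsField g.normalization.functionField
  letI := hF.toField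
  exact RingHom.injective (Scheme.stalkClosedPointTo g.toNormalization).hom

include hg in
/-- the image of the function field of the normalisation is the algebraic closure of that of `X` -/
theorem ran_toNormalization :
    (ran g.toNormalization : Set K) = {y : K | ∃ q : Polynomial X.functionField, q.Monic ∧ Polynomial.eval₂ φ y q = 0} := by
  obtain ⟨_, ⟨U, hU, rfl⟩, hηU, -⟩ :=
    X.isBasis_affineOpens.exists_subset_of_mem_open (Set.mem_univ (genericPoint X)) isOpen_univ
  haveI : Nonempty U := ⟨⟨_, hηU⟩⟩
  let A := Γ(X, U)
  haveI : IsFractionRing A X.functionField := functionField_isFractionRing_of_isAffineOpen X U hU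
  letI : Algebra X.functionField K := φ.toAlgebra
  letI : Algebra A K := (φ.comp (X.germToFunctionField U).hom).toAlgebra
  haveI : IsScalarTower A X.functionField K := IsScalarTower.of_algebraMap_eq' rfl
  letI algL : Algebra A Γ(Spec (CommRingCat.of K), g ⁻¹ᵁ U) := (g.app U).hom.toAlgebra
  let L := Γ(Spec (CommRingCat.of K), g ⁻¹ᵁ U)
  let ε : K ≃ₐ[A] L := AlgEquiv.ofRingEquiv (f := fieldEquiv φ g hg U) fun a => by
    change _ = (g.app U) a
    rw [app_eq φ g hg U]
    rfl
  let V := g.fromNormalization ⁻¹ᵁ U
  haveI : Nonempty V := ⟨⟨genericPoint g.normalization,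
    (show g.fromNormalization (genericPoint g.normalization) ∈ U from
      (fromNormalization_generic φ g hg).symm ▸ hηU)⟩⟩
  have hV : IsAffineOpen V := hU.preimage _
  have hgV : genericPoint g.normalization ∈ V := genericPoint_mem V
  obtain ⟨ψ, hψr, -, hψU⟩ := exists_functionField_map g.toNormalization (generic_normalization g)
  rw [← hψr]
  have key : ∀ b : Γ(g.normalization, V),
      ψ (g.normalization.germToFunctionField V b) =
        ε.symm ((g.normalizationObjIso hU).hom b : integralClosure A L).1 := by
    intro b
    refine (hψU V hgV b).trans ?_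
    have h1 := congr($(Scheme.germ_stalkClosedPointTo g.toNormalization V
      ((generic_normalization g).symm ▸ hgV)) b)
    refine h1.trans ?_
    apply ε.injective
    rw [AlgEquiv.apply_symm_apply]
    have h2 := congr($(g.normalizationObjIso_hom_val hU) b)
    refine Eq.trans ?_ h2.symm
    rw [ConcreteCategory.comp_apply, Scheme.Hom.appLE, ConcreteCategory.comp_apply]
    change (Spec (CommRingCat.of K)).presheaf.map (homOfLE (le_top (a := g ⁻¹ᵁ U))).op
      ((Scheme.ΓSpecIso (CommRingCat.of K)).inv
        ((Scheme.ΓSpecIso (CommRingCat.of K)).hom ((Spec (CommRingCat.of K)).presheaf.map _ _))) = _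
    rw [Iso.hom_inv_id_apply, ← ConcreteCategory.comp_apply, ← Functor.map_comp]
    rfl
  haveI := functionField_isFractionRing_of_isAffineOpen g.normalization V hV
  refine Set.ext fun y => ⟨?_, ?_⟩
  · rintro ⟨z, rfl⟩
    obtain ⟨a, b, hb, rfl⟩ := IsFractionRing.div_surjective Γ(g.normalization, V) z
    have hi : ∀ b, IsIntegral X.functionField (ψ (g.normalization.germToFunctionField V b)) := by
      intro b
      rw [key]
      exact ((((g.normalizationObjIso hU).hom b : integralClosure A L)).2.map ε.symm.toAlgHom).tower_top
    rw [map_div₀]
    have hint : IsIntegral X.functionField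
        (ψ (g.normalization.germToFunctionField V a) / ψ (g.normalization.germToFunctionField V b)) := by
      rw [div_eq_mul_inv]
      exact (hi a).mul (hi b).inv
    exact hint
  · intro hy
    have hy' : IsIntegral X.functionField y := hy
    obtain ⟨m, hm⟩ := hy'.exists_multiple_integral_of_isLocalization (nonZeroDivisors A) y
    let c : integralClosure A L := ⟨ε (m • y), hm.map ε.toAlgHom⟩
    let d : integralClosure A L := algebraMap A _ (m : A)
    let e := (g.normalizationObjIso hU)
    have h1 : ψ (g.normalization.germToFunctionField V (e.inv c)) = m • y := by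
      rw [key, Iso.inv_hom_id_apply]
      exact ε.symm_apply_apply _
    have h2 : ψ (g.normalization.germToFunctionField V (e.inv d)) = algebraMap A K (m : A) := by
      rw [key, Iso.inv_hom_id_apply]
      exact ε.symm.commutes _
    refine ⟨g.normalization.germToFunctionField V (e.inv c) / g.normalization.germToFunctionField V (e.inv d), ?_⟩
    rw [map_div₀, h1, h2, Submonoid.smul_def, Algebra.smul_def, mul_div_cancel_left₀]
    rw [IsScalarTower.algebraMap_apply A X.functionField K]
    exact (map_ne_zero _).mpr (IsLocalization.to_map_ne_zero_of_mem_nonZeroDivisors _ le_rfl m.2)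

end Groth.Agent.NormalSch
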