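import Groth.Agent.NormalSch.Curve

/-!
# Rational maps from one-dimensional regular schemes to proper schemes
-/

set_option autoImplicit false
set_option backward.isDefEq.respectTransparency false
set_option backward.defeqAttrib.useBackward true

universe u

open CategoryTheory AlgebraicGeometry TopologicalSpace IsLocalRing

namespace Groth.Agent.NormalSch

variable {X Y S : Scheme.{u}}

theorem exists_extension_of_generic [IsNoetherian X] [IsIntegral X]
    (hX : ∀ x : X, x ≠ genericPoint X →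
      ∃ _ : IsDomain (X.presheaf.stalk x), IsDiscreteValuationRing (X.presheaf.stalk x))
    (sX : X ⟶ S) (sY : Y ⟶ S) [IsProper sY]
    (φ : Spec (X.presheaf.stalk (genericPoint X)) ⟶ Y)
    (hφ : φ ≫ sY = X.fromSpecStalk (genericPoint X) ≫ sX) :
    ∃ g : X ⟶ Y, g ≫ sY = sX ∧ X.fromSpecStalk (genericPoint X) ≫ g = φ := by
  obtain ⟨U, hxU, g, hφg, hg⟩ := spread_out_of_isGermInjective' (sX := sX) (sY := sY)
    (x := genericPoint X) φ hφ
  have hU : Dense (U : Set X) :=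
    U.isOpen.dense ⟨_, hxU⟩
  have hloc : ∀ x : {x : X // x ≠ genericPoint X}, ∃ (V : X.Opens) (_ : x.1 ∈ V)
      (gV : (V : Scheme.{u}) ⟶ Y), gV ≫ sY = V.ι ≫ sX ∧
      X.homOfLE (inf_le_right : U ⊓ V ≤ V) ≫ gV = X.homOfLE (inf_le_left : U ⊓ V ≤ U) ≫ g := by
    intro x
    obtain ⟨_, _⟩ := hX x.1 x.2
    exact exists_extension_at sX sY U hU g hg x.1
  choose V hV gV hgV hgVU using hloc
  let I := Option {x : X // x ≠ genericPoint X}
  let W : I → X.Opens := fun o => o.elim U V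
  let gw : ∀ o : I, (W o : Scheme.{u}) ⟶ Y := fun o => match o with
    | none => g
    | some x => gV x
  have hgw : ∀ o, gw o ≫ sY = (W o).ι ≫ sX := by
    rintro (_ | x)
    · exact hg
    · exact hgV x
  have hgwU : ∀ o, X.homOfLE (inf_le_right : U ⊓ W o ≤ W o) ≫ gw o =
      X.homOfLE (inf_le_left : U ⊓ W o ≤ U) ≫ g := by
    rintro (_ | x)
    · rfl
    · exact hgVU x
  have hcov : iSup W = ⊤ := by
    refine eq_top_iff.mpr fun y _ => ?_
    by_cases hy : y = genericPoint X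
    · exact Opens.mem_iSup.mpr ⟨none, hy ▸ hxU⟩
    · exact Opens.mem_iSup.mpr ⟨some ⟨y, hy⟩, hV ⟨y, hy⟩⟩
  let 𝒲 : X.OpenCover := X.openCoverOfIsOpenCover W hcov
  have hcompat : ∀ o o', Limits.pullback.fst (𝒲.f o) (𝒲.f o') ≫ gw o =
      Limits.pullback.snd (𝒲.f o) (𝒲.f o') ≫ gw o' := by
    intro o o'
    let q := (isPullback_opens_inf (W o) (W o')).isoPullback
    rw [← cancel_epi q.hom]
    change q.hom ≫ Limits.pullback.fst (W o).ι (W o').ι ≫ _ = q.hom ≫ Limits.pullback.snd (W o).ι (W o').ι ≫ _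
    rw [(isPullback_opens_inf (W o) (W o')).isoPullback_hom_fst_assoc,
      (isPullback_opens_inf (W o) (W o')).isoPullback_hom_snd_assoc]
    let Q := W o ⊓ W o'
    let d := X.homOfLE (inf_le_right : U ⊓ Q ≤ Q)
    haveI : IsDominant d := ⟨by
      rw [DenseRange, dense_iff_inter_open]
      rintro O hO ⟨z, hz⟩
      obtain ⟨O', hO', rfl⟩ := Q.ι.isOpenEmbedding.isInducing.isOpen_iff.mp hO
      obtain ⟨w, ⟨hwO, hwQ⟩, hwU⟩ := hU.inter_open_nonempty (O' ∩ Q) (hO'.inter Q.isOpen)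
        ⟨Q.ι z, hz, Q.range_ι.subset ⟨z, rfl⟩⟩
      refine ⟨d ⟨w, hwU, hwQ⟩, ?_, Set.mem_range_self _⟩
      change Q.ι (d _) ∈ O'
      rw [← Scheme.Hom.comp_apply, Scheme.homOfLE_ι]
      exact hwO⟩
    refine ext_of_isDominant_of_isSeparated sY ?_ d ?_
    · simp only [Category.assoc, hgw, Scheme.homOfLE_ι_assoc]
    · simp only [d, Q, ← Category.assoc, Scheme.homOfLE_homOfLE]
      have e : ∀ o'' (h : U ⊓ Q ≤ W o''), X.homOfLE h ≫ gw o'' =
          X.homOfLE (inf_le_left : U ⊓ Q ≤ U) ≫ g := by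
        intro o'' h
        rw [← Scheme.homOfLE_homOfLE X (le_inf inf_le_left h : U ⊓ Q ≤ U ⊓ W o'') inf_le_right,
          Category.assoc, hgwU, ← Category.assoc, Scheme.homOfLE_homOfLE]
      rw [e o, e o']
  refine ⟨𝒲.glueMorphisms gw hcompat, Scheme.Cover.hom_ext 𝒲 _ _ fun o => ?_, ?_⟩
  · rw [𝒲.ι_glueMorphisms_assoc]
    exact hgw o
  · rw [hφg, ← Scheme.Opens.fromSpecStalkOfMem_ι U _ hxU, Category.assoc]
    exact congrArg (fun m => U.fromSpecStalkOfMem _ hxU ≫ m) (𝒲.ι_glueMorphisms gw hcompat none)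

end Groth.Agent.NormalSch
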